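import Groth.Agent.CatLib.CM
import Mathlib.AlgebraicGeometry.ProjectiveSpectrum.Basic
import Mathlib.RingTheory.Spectrum.Prime.RingHom

/-! # The homogeneous localisation at a relevant prime of a Cohen–Macaulay graded ring -/

set_option autoImplicit false
set_option backward.isDefEq.respectTransparency false
set_option backward.isDefEq.respectTransparency.types false

universe u

open IsLocalRing RingTheory.Sequence CommAlgDim HomogeneousLocalization

namespace VeroProjLib

variable {A : Type u} [CommRing A] (𝒜 : ℕ → AddSubgroup A) [GradedRing 𝒜] (p : Ideal A) [p.IsPrime]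

local notation "H" => HomogeneousLocalization.AtPrime 𝒜 p
local notation "B" => Localization.AtPrime p

/-- Extension followed by contraction does nothing. -/
theorem comap_map_val (I : Ideal H) : (I.map (algebraMap H B)).comap (algebraMap H B) = I := by
  classical
  refine le_antisymm (fun x hx => ?_) Ideal.le_comap_map
  obtain ⟨⟨e, ⟨n, hn⟩, ⟨D, hD⟩, hDp⟩, rfl⟩ := HomogeneousLocalization.mk_surjective x
  rw [Ideal.mem_comap] at hx
  obtain ⟨t, htI, b, hb⟩ := (Submodule.mem_span_image_iff_exists_fun B).1 hx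
  choose ρ σ hρ using fun k : t => IsLocalization.exists_mk'_eq p.primeCompl (b k)
  have hc : ∀ k : t, ∃ (e : ℕ) (n D : A), n ∈ 𝒜 e ∧ D ∈ 𝒜 e ∧ ∃ hD : D ∈ p.primeCompl,
      (k : H).val = Localization.mk n ⟨D, hD⟩ := fun k => by
    obtain ⟨⟨e, n, D, hD⟩, h⟩ := HomogeneousLocalization.mk_surjective (k : H)
    exact ⟨e, n, D, n.2, D.2, hD, by rw [← h]; rfl⟩
  choose ek nk Dk hnk hDk hDkp hval using hc
  let S : A := ∏ k : t, (σ k : A)
  let Δ : A := ∏ k : t, Dk k
  let m : t → A := fun k => nk k * ∏ l ∈ Finset.univ.erase k, Dk l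
  let r : t → A := fun k => ρ k * ∏ l ∈ Finset.univ.erase k, (σ l : A)
  let E := ∑ k : t, ek k
  have hΔp : Δ ∈ p.primeCompl := Submonoid.prod_mem _ fun k _ => hDkp k
  have hSp : S ∈ p.primeCompl := Submonoid.prod_mem _ fun k _ => (σ k).2
  have hm : ∀ k, m k ∈ 𝒜 E := fun k => by
    have h := SetLike.mul_mem_graded (hnk k) (SetLike.prod_mem_graded 𝒜 ek Dk (F := Finset.univ.erase k) fun j _ => hDk j)
    rwa [Finset.add_sum_erase _ ek (Finset.mem_univ k)] at h
  have hΔ : Δ ∈ 𝒜 E := SetLike.prod_mem_graded 𝒜 ek Dk fun j _ => hDk j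
  have hterm : ∀ k : t, b k • algebraMap H B (k : H) = Localization.mk (r k * m k) (⟨S * Δ, mul_mem hSp hΔp⟩ : p.primeCompl) := by
    intro k
    rw [smul_eq_mul, HomogeneousLocalization.algebraMap_apply, hval k, ← hρ k, ← Localization.mk_eq_mk',
      Localization.mk_mul, Localization.mk_eq_mk_iff, Localization.r_iff_exists]
    refine ⟨1, ?_⟩
    simp only [Submonoid.coe_mul, OneMemClass.coe_one, one_mul, S, Δ, r, m]
    rw [← Finset.mul_prod_erase Finset.univ (fun l => (σ l : A)) (Finset.mem_univ k),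
      ← Finset.mul_prod_erase Finset.univ Dk (Finset.mem_univ k)]
    ring
  rw [Finset.sum_congr rfl (fun k _ => hterm k)] at hb
  have hsum : ∀ s : Finset t, ∑ k ∈ s, Localization.mk (r k * m k) (⟨S * Δ, mul_mem hSp hΔp⟩ : p.primeCompl) =
      Localization.mk (∑ k ∈ s, r k * m k) ⟨S * Δ, mul_mem hSp hΔp⟩ := by
    intro s
    induction s using Finset.induction_on with
    | empty => simp [Localization.mk_zero]
    | insert i s hi ih => rw [Finset.sum_insert hi, Finset.sum_insert hi, ih, Localization.add_mk_self]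
  rw [hsum] at hb
  change _ = Localization.mk n (⟨D, hDp⟩ : p.primeCompl) at hb
  rw [Localization.mk_eq_mk_iff, Localization.r_iff_exists] at hb
  obtain ⟨⟨w, hw⟩, hwe⟩ := hb
  simp only at hwe
  let U : A := w * S
  have hU : U ∈ p.primeCompl := mul_mem hw hSp
  obtain ⟨j, hj⟩ : ∃ j, (DirectSum.decompose 𝒜 U j : A) ∉ p := by
    by_contra hcon
    push Not at hcon
    refine hU ?_
    rw [← DirectSum.sum_support_decompose 𝒜 U]
    exact p.sum_mem fun i _ => hcon i
  have hmain : U * (Δ * n) = ∑ k : t, (w * r k) * (D * m k) := by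
    simp only [U]
    rw [show w * S * (Δ * n) = w * (S * Δ * n) by ring, ← hwe, Finset.mul_sum, Finset.mul_sum]
    exact Finset.sum_congr rfl fun k _ => by ring
  have hcomp := congrArg (GradedRing.proj 𝒜 (j + (E + e))) hmain
  rw [map_sum] at hcomp
  simp only [GradedRing.proj_apply] at hcomp
  rw [DirectSum.coe_decompose_mul_add_of_right_mem 𝒜 (SetLike.mul_mem_graded hΔ hn),
    Finset.sum_congr rfl (fun k _ => show (DirectSum.decompose 𝒜 (w * r k * (D * m k)) (j + (E + e)) : A) =
      (DirectSum.decompose 𝒜 (w * r k) j : A) * (D * m k) by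
        rw [show j + (E + e) = j + (e + E) by ring]
        exact DirectSum.coe_decompose_mul_add_of_right_mem 𝒜 (SetLike.mul_mem_graded hD (hm k)))] at hcomp
  let c : t → H := fun k => HomogeneousLocalization.mk
    ⟨j, DirectSum.decompose 𝒜 (w * r k) j, DirectSum.decompose 𝒜 U j, hj⟩
  have heq : HomogeneousLocalization.mk ⟨e, ⟨n, hn⟩, ⟨D, hD⟩, hDp⟩ = ∑ k : t, c k * (k : H) := by
    refine HomogeneousLocalization.val_injective _ ?_
    rw [← HomogeneousLocalization.algebraMap_apply, ← HomogeneousLocalization.algebraMap_apply, map_sum]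
    have hck : ∀ k : t, algebraMap H B (c k * (k : H)) = Localization.mk
        ((DirectSum.decompose 𝒜 (w * r k) j : A) * m k)
        (⟨(DirectSum.decompose 𝒜 U j : A) * Δ, mul_mem (show _ ∈ p.primeCompl from hj) hΔp⟩ : p.primeCompl) := by
      intro k
      rw [map_mul, HomogeneousLocalization.algebraMap_apply, HomogeneousLocalization.algebraMap_apply, hval k,
        HomogeneousLocalization.val_mk, Localization.mk_mul, Localization.mk_eq_mk_iff, Localization.r_iff_exists]
      refine ⟨1, ?_⟩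
      simp only [Submonoid.coe_mul, OneMemClass.coe_one, one_mul, Δ, m]
      rw [← Finset.mul_prod_erase Finset.univ Dk (Finset.mem_univ k)]
      ring
    rw [Finset.sum_congr rfl (fun k _ => hck k)]
    have hsum' : ∀ (s : Finset t) (q : p.primeCompl) (a : t → A),
        ∑ k ∈ s, Localization.mk (a k) q = Localization.mk (∑ k ∈ s, a k) q := by
      intro s q a
      induction s using Finset.induction_on with
      | empty => simp [Localization.mk_zero]
      | insert i s hi ih => rw [Finset.sum_insert hi, Finset.sum_insert hi, ih, Localization.add_mk_self]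
    rw [hsum', HomogeneousLocalization.algebraMap_apply, HomogeneousLocalization.val_mk,
      Localization.mk_eq_mk_iff, Localization.r_iff_exists]
    refine ⟨1, ?_⟩
    simp only [OneMemClass.coe_one, one_mul]
    rw [show (DirectSum.decompose 𝒜 U j : A) * Δ * n = (DirectSum.decompose 𝒜 U j : A) * (Δ * n) by ring, hcomp,
      Finset.mul_sum]
    exact Finset.sum_congr rfl fun k _ => by ring
  rw [heq]
  exact I.sum_mem fun k _ => I.mul_mem_left _ (htI k.2)

variable {d : ℕ} (f : A) (hf : f ∈ 𝒜 d) (hfp : f ∉ p)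

/-- The degree zero element `r ^ d / f ^ i`. -/
noncomputable def degZero (r : A) (i : ℕ) (hr : r ∈ 𝒜 i) : H :=
  HomogeneousLocalization.mk ⟨i * d, ⟨r ^ d, by
    have := SetLike.pow_mem_graded d hr
    rwa [smul_eq_mul, mul_comm] at this⟩, ⟨f ^ i, by
    have := SetLike.pow_mem_graded i hf
    rwa [smul_eq_mul] at this⟩, pow_mem (show f ∈ p.primeCompl from hfp) i⟩

theorem degZero_spec (r : A) (i : ℕ) (hr : r ∈ 𝒜 i) :
    (degZero 𝒜 p f hf hfp r i hr).val * algebraMap A B (f ^ i) = algebraMap A B r ^ d := by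
  rw [degZero, HomogeneousLocalization.val_mk, Localization.mk_eq_mk', IsLocalization.mk'_spec_mk, map_pow]

theorem degZero_mem_iff (Q : Ideal B) [Q.IsPrime] (hd : 0 < d) (r : A) (i : ℕ) (hr : r ∈ 𝒜 i) :
    algebraMap A B r ∈ Q ↔ degZero 𝒜 p f hf hfp r i hr ∈ Q.comap (algebraMap H B) := by
  have hu : IsUnit (algebraMap A B (f ^ i)) :=
    IsLocalization.map_units B (⟨f ^ i, pow_mem (show f ∈ p.primeCompl from hfp) i⟩ : p.primeCompl)
  rw [Ideal.mem_comap, HomogeneousLocalization.algebraMap_apply]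
  refine Iff.trans ?_ (Ideal.mul_unit_mem_iff_mem Q hu)
  rw [degZero_spec 𝒜 p f hf hfp r i hr]
  refine ⟨fun h => ?_, fun h => ‹Q.IsPrime›.mem_of_pow_mem d h⟩
  exact Ideal.pow_mem_of_mem Q h d hd

include hf hfp in
theorem ringKrullDim_le (hd : 0 < d) : ringKrullDim H ≤ ringKrullDim B := by
  have hover : ∀ q : PrimeSpectrum H, ∃ Q : PrimeSpectrum B, Q.asIdeal.comap (algebraMap H B) = q.asIdeal :=
    fun q => by
      obtain ⟨Q, hQ, hQc⟩ := (Ideal.comap_map_eq_self_iff_of_isPrime (f := algebraMap H B) q.asIdeal).1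
        (comap_map_val 𝒜 p q.asIdeal)
      exact ⟨⟨Q, hQ⟩, hQc⟩
  choose Q hQ using hover
  let P : PrimeSpectrum H → Ideal A := fun q => (((Q q).asIdeal.comap (algebraMap A B)).homogeneousCore 𝒜).toIdeal
  have hPp : ∀ q, (P q).IsPrime := fun q => Ideal.IsPrime.homogeneousCore (Ideal.IsPrime.comap _)
  have hPQ : ∀ q, P q ≤ (Q q).asIdeal.comap (algebraMap A B) := fun q => Ideal.toIdeal_homogeneousCore_le _ _
  have hPle : ∀ q, P q ≤ p := fun q x hx => by
    by_contra hxp
    exact (Q q).2.ne_top (Ideal.eq_top_of_isUnit_mem _ (hPQ q hx)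
      (IsLocalization.map_units B (⟨x, hxp⟩ : p.primeCompl)))
  have hmem : ∀ q (r : A) (i : ℕ) (hr : r ∈ 𝒜 i), r ∈ P q ↔ degZero 𝒜 p f hf hfp r i hr ∈ q.asIdeal := by
    intro q r i hr
    rw [← hQ q, ← degZero_mem_iff 𝒜 p f hf hfp _ hd r i hr]
    exact ⟨fun h => hPQ q h, fun h => Ideal.mem_homogeneousCore_of_homogeneous_of_mem ⟨i, hr⟩ h⟩
  have hmono : ∀ q q', q ≤ q' → P q ≤ P q' := by
    intro q q' hqq x hx
    classical
    rw [← DirectSum.sum_support_decompose 𝒜 x]
    refine Ideal.sum_mem _ fun i _ => (hmem q' _ i (SetLike.coe_mem _)).2 (hqq ((hmem q _ i (SetLike.coe_mem _)).1 ?_))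
    exact (((Q q).asIdeal.comap (algebraMap A B)).homogeneousCore 𝒜).isHomogeneous i hx
  have hback : ∀ q q', P q = P q' → q ≤ q' := by
    intro q q' he x hx
    obtain ⟨⟨i, ⟨n, hn⟩, ⟨D, hD⟩, hDp⟩, rfl⟩ := HomogeneousLocalization.mk_surjective x
    rw [← hQ q, Ideal.mem_comap] at hx
    rw [← hQ q', Ideal.mem_comap]
    change Localization.mk n (⟨D, hDp⟩ : p.primeCompl) ∈ _ at hx ⊢
    rw [Localization.mk_eq_mk', IsLocalization.mk'_mem_iff] at hx ⊢
    exact hPQ q' (he ▸ Ideal.mem_homogeneousCore_of_homogeneous_of_mem ⟨i, hn⟩ hx)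
  let Φ : PrimeSpectrum H → {I : Ideal A // I.IsPrime ∧ Disjoint (p.primeCompl : Set A) I} := fun q =>
    ⟨P q, hPp q, Set.disjoint_left.2 fun x hx hxP => hx (hPle q hxP)⟩
  have hΦ : StrictMono Φ := fun q q' h => lt_of_le_of_ne (hmono q q' h.le) fun he =>
    h.not_ge (hback q' q (congrArg Subtype.val he).symm)
  let o := IsLocalization.orderIsoOfPrime p.primeCompl B
  let Ψ : PrimeSpectrum H → PrimeSpectrum B := fun q => ⟨(o.symm (Φ q)).1, (o.symm (Φ q)).2⟩
  exact Order.krullDim_le_of_strictMono Ψ fun q q' h => o.symm.strictMono (hΦ h)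

include hf hfp in
/-- The local ring of `Proj` is Cohen–Macaulay when the local ring at the prime is. -/
theorem isCM_atPrime [IsNoetherianRing A] (hp : p.IsHomogeneous 𝒜) (hd : 0 < d) (hB : IsCM B) :
    LocCoh.IsCohenMacaulayLocalRing H := by
  classical
  haveI : IsNoetherianRing H := by
    rw [isNoetherianRing_iff, isNoetherian_iff]
    exact InvImage.wf (fun I : Ideal H => I.map (algebraMap H B)) (IsWellFounded.wf (r := (· > ·)))|> Subrelation.wf
      fun {I J} (h : J < I) => lt_of_le_of_ne (Ideal.map_mono h.le) fun he => h.ne (by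
        rw [← comap_map_val 𝒜 p J, he, comap_map_val 𝒜 p I])
  obtain ⟨s, hs, hcard⟩ := (maximalIdeal H).exists_finset_card_eq_height_of_isNoetherianRing
  have hdimH : ringKrullDim H = (s.card : ℕ) := by
    rw [← IsLocalRing.maximalIdeal_height_eq_ringKrullDim, ← hcard]; rfl
  let rs : List B := s.toList.map (algebraMap H B)
  have hrs : Ideal.ofList rs = (Ideal.span (s : Set H)).map (algebraMap H B) := by
    rw [← Ideal.map_ofList]
    congr 1
    exact congrArg Ideal.span (Set.ext fun x => by simp)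
  have hsm : ∀ x ∈ s, x ∈ maximalIdeal H := fun x hx => hs.1.2 (Ideal.subset_span hx)
  have hrm : ∀ r ∈ rs, r ∈ maximalIdeal B := by
    intro r hr
    obtain ⟨x, hx, rfl⟩ := List.mem_map.1 hr
    have := hsm x (Finset.mem_toList.1 hx)
    rw [mem_maximalIdeal, mem_nonunits_iff] at this ⊢
    exact fun hu => this ((HomogeneousLocalization.isUnit_iff_isUnit_val 𝒜 p x).1 hu)
  have hne : Ideal.ofList rs ≠ ⊤ := ne_top_of_le_ne_top (Ideal.IsMaximal.ne_top inferInstance)
    (Ideal.span_le.2 hrm : Ideal.ofList rs ≤ maximalIdeal B)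
  haveI : Nontrivial (B ⧸ Ideal.ofList rs) := Ideal.Quotient.nontrivial_iff.2 hne
  have h0 : ringKrullDim (B ⧸ Ideal.ofList rs) = 0 := by
    haveI : Ring.KrullDimLE 0 (B ⧸ Ideal.ofList rs) := Ring.KrullDimLE.mk₀ fun Q hQ => by
      let P := Q.comap (Ideal.Quotient.mk (Ideal.ofList rs))
      haveI : P.IsPrime := Ideal.IsPrime.comap _
      have hsP : Ideal.span (s : Set H) ≤ P.comap (algebraMap H B) := by
        rw [← Ideal.map_le_iff_le_comap, ← hrs]
        intro x hx
        rw [Ideal.mem_comap, Ideal.Quotient.eq_zero_iff_mem.2 hx]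
        exact Q.zero_mem
      have hPm : P.comap (algebraMap H B) = maximalIdeal H :=
        le_antisymm (IsLocalRing.le_maximalIdeal (Ideal.IsPrime.ne_top (Ideal.IsPrime.comap _)))
          (hs.2 ⟨Ideal.IsPrime.comap _, hsP⟩ (IsLocalRing.le_maximalIdeal (Ideal.IsPrime.ne_top (Ideal.IsPrime.comap _))))
      have hmP : maximalIdeal B ≤ P := by
        rw [← IsLocalization.AtPrime.map_eq_maximalIdeal p B, Ideal.map_le_iff_le_comap]
        intro x hx
        rw [← DirectSum.sum_support_decompose 𝒜 x, Ideal.mem_comap, map_sum]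
        refine P.sum_mem fun i _ => (degZero_mem_iff 𝒜 p f hf hfp P hd _ i (SetLike.coe_mem _)).2 ?_
        rw [hPm, mem_maximalIdeal, mem_nonunits_iff]
        intro hu
        have h2 := (degZero_mem_iff 𝒜 p f hf hfp (maximalIdeal B) hd _ i (SetLike.coe_mem _)).1
          ((IsLocalization.AtPrime.to_map_mem_maximal_iff B p _).2 (hp i hx))
        exact (mem_maximalIdeal _).1 h2 (hu.map (algebraMap H B))
      have hP : P = maximalIdeal B := le_antisymm (IsLocalRing.le_maximalIdeal (Ideal.IsPrime.ne_top inferInstance)) hmP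
      have hQe : (maximalIdeal B).map (Ideal.Quotient.mk (Ideal.ofList rs)) = Q := by
        rw [← hP]; exact Ideal.map_comap_of_surjective _ Ideal.Quotient.mk_surjective _
      exact hQe ▸ ((Ideal.map_eq_top_or_isMaximal_of_surjective _ Ideal.Quotient.mk_surjective
        (maximalIdeal.isMaximal B)).resolve_left (hQe.symm ▸ hQ.ne_top))
    exact ringKrullDimZero_iff_ringKrullDim_eq_zero.1 inferInstance
  have hreg := (isRegular_of_dim hB hrm (by
    rw [h0, zero_add, List.length_map, Finset.length_toList, ← hdimH]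
    exact ringKrullDim_le 𝒜 p f hf hfp hd)).toIsWeaklyRegular
  have hw : IsWeaklyRegular H s.toList := ⟨fun i hi => by
    have hreg' := hreg.regular_mod_prev i (by simpa [rs] using hi)
    refine IsSMulRegular.of_right_eq_zero_of_smul fun z hz => ?_
    obtain ⟨z, rfl⟩ := Submodule.Quotient.mk_surjective _ z
    rw [← Submodule.Quotient.mk_smul, Submodule.Quotient.mk_eq_zero, smul_eq_mul, smul_eq_mul, Ideal.mul_top] at hz
    rw [Submodule.Quotient.mk_eq_zero, smul_eq_mul, Ideal.mul_top, ← comap_map_val 𝒜 p (Ideal.ofList _),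
      Ideal.mem_comap, Ideal.map_ofList, List.map_take]
    have h := hreg'.right_eq_zero_of_smul (x := Submodule.Quotient.mk (algebraMap H B z)) (by
      rw [← Submodule.Quotient.mk_smul, Submodule.Quotient.mk_eq_zero, smul_eq_mul, smul_eq_mul, Ideal.mul_top]
      simp only [rs, List.getElem_map, ← map_mul, ← List.map_take, ← Ideal.map_ofList]
      exact Ideal.mem_map_of_mem _ hz)
    rw [Submodule.Quotient.mk_eq_zero, smul_eq_mul, Ideal.mul_top] at h
    exact h⟩
  exact SMTLib.isCohenMacaulayLocalRing_of_isCM _ (CatLib.isCM_of_hasSeqIn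
    ⟨s.toList, Finset.length_toList s, fun r hr => hsm r (Finset.mem_toList.1 hr), hw⟩ hdimH.le)

end VeroProjLib
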