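import Groth.Agent.GorLib.Fibres
import Mathlib.AlgebraicGeometry.ProjectiveSpectrum.Basic
import Mathlib.RingTheory.RingHom.Flat
import Mathlib.RingTheory.Flat.FaithfullyFlat.Algebra

/-! # The homogeneous localisation at a prime missing elements of consecutive degrees -/

set_option autoImplicit false
set_option backward.isDefEq.respectTransparency false
set_option backward.isDefEq.respectTransparency.types false

universe u

open Polynomial HomogeneousLocalization IsLocalRing

namespace VeroProjLib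

variable {A : Type u} [CommRing A] (𝒜 : ℕ → AddSubgroup A) [GradedRing 𝒜] (p : Ideal A) [p.IsPrime]

/-- The homogeneous elements outside `p`. -/
def homCompl : Submonoid A where
  carrier := {a | (∃ i, a ∈ 𝒜 i) ∧ a ∉ p}
  one_mem' := ⟨⟨0, SetLike.one_mem_graded 𝒜⟩, fun h => Ideal.IsPrime.ne_top ‹_› ((Ideal.eq_top_iff_one p).2 h)⟩
  mul_mem' := fun {a b} ⟨⟨i, hi⟩, ha⟩ ⟨⟨j, hj⟩, hb⟩ =>
    ⟨⟨i + j, SetLike.mul_mem_graded hi hj⟩, fun h => (Ideal.IsPrime.mem_or_mem ‹_› h).elim ha hb⟩

theorem homCompl_le : homCompl 𝒜 p ≤ p.primeCompl := fun _ h => h.2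

/-- The homogeneous localisation may be formed with homogeneous denominators only. -/
noncomputable def toAtPrime : HomogeneousLocalization 𝒜 (homCompl 𝒜 p) →+* HomogeneousLocalization.AtPrime 𝒜 p :=
  HomogeneousLocalization.map (GradedRingHom.id 𝒜) (homCompl_le 𝒜 p)

theorem toAtPrime_bijective : Function.Bijective (toAtPrime 𝒜 p) := by
  classical
  constructor
  · intro a b hab
    obtain ⟨⟨da, ⟨na, hna⟩, ⟨ea, hea⟩, hea'⟩, rfl⟩ := HomogeneousLocalization.mk_surjective a
    obtain ⟨⟨db, ⟨nb, hnb⟩, ⟨eb, heb⟩, heb'⟩, rfl⟩ := HomogeneousLocalization.mk_surjective b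
    have h := congrArg HomogeneousLocalization.val hab
    change Localization.mk na (⟨ea, hea'.2⟩ : p.primeCompl) = Localization.mk nb (⟨eb, heb'.2⟩ : p.primeCompl) at h
    rw [Localization.mk_eq_mk_iff, Localization.r_iff_exists] at h
    obtain ⟨⟨w, hw⟩, hwe⟩ := h
    simp only at hwe
    obtain ⟨j, hj⟩ : ∃ j, (DirectSum.decompose 𝒜 w j : A) ∉ p := by
      by_contra hcon
      push Not at hcon
      refine hw ?_
      rw [← DirectSum.sum_support_decompose 𝒜 w]
      exact p.sum_mem fun i _ => hcon i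
    have hcomp := congrArg (fun t => (DirectSum.decompose 𝒜 t (j + (db + da)) : A)) hwe
    simp only at hcomp
    rw [DirectSum.coe_decompose_mul_add_of_right_mem 𝒜 (SetLike.mul_mem_graded heb hna),
      show j + (db + da) = j + (da + db) by ring,
      DirectSum.coe_decompose_mul_add_of_right_mem 𝒜 (SetLike.mul_mem_graded hea hnb)] at hcomp
    refine HomogeneousLocalization.val_injective _ ?_
    rw [HomogeneousLocalization.val_mk, HomogeneousLocalization.val_mk, Localization.mk_eq_mk_iff,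
      Localization.r_iff_exists]
    exact ⟨⟨(DirectSum.decompose 𝒜 w j : A), ⟨j, SetLike.coe_mem _⟩, hj⟩, hcomp⟩
  · intro b
    obtain ⟨⟨db, n, e, he⟩, rfl⟩ := HomogeneousLocalization.mk_surjective b
    exact ⟨HomogeneousLocalization.mk ⟨db, n, e, ⟨db, e.2⟩, he⟩, rfl⟩

variable {d : ℕ} (f g : A) (hf : f ∈ 𝒜 d) (hg : g ∈ 𝒜 (d + 1)) (hfp : f ∉ p) (hgp : g ∉ p)

/-- `g / f`, of degree one. -/
noncomputable def u : Localization (homCompl 𝒜 p) :=
  Localization.mk g ⟨f, ⟨d, hf⟩, hfp⟩

/-- The comparison with the polynomial ring. -/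
noncomputable def psi : (HomogeneousLocalization 𝒜 (homCompl 𝒜 p))[X] →+* Localization (homCompl 𝒜 p) :=
  eval₂RingHom (algebraMap _ _) (u 𝒜 p f g hf hfp)

theorem mk_sum (t : homCompl 𝒜 p) (s : Finset ℕ) (a : ℕ → A) :
    ∑ i ∈ s, Localization.mk (a i) t = Localization.mk (∑ i ∈ s, a i) t := by
  classical
  induction s using Finset.induction_on with
  | empty => simp [Localization.mk_zero]
  | insert i s hi ih => rw [Finset.sum_insert hi, Finset.sum_insert hi, ih, Localization.add_mk_self]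

/-- Elements of different degrees are independent. -/
theorem eq_zero_of_sum_mk (a : ℕ → A) (E : ℕ) (t : homCompl 𝒜 p) (s : Finset ℕ)
    (ha : ∀ i, a i ∈ 𝒜 (E + i)) (h : ∑ i ∈ s, Localization.mk (a i) t = 0) (i : ℕ) (hi : i ∈ s) :
    ∃ w ∈ homCompl 𝒜 p, w * a i = 0 := by
  classical
  rw [mk_sum, Localization.mk_eq_mk', IsLocalization.mk'_eq_zero_iff] at h
  obtain ⟨⟨w, ⟨σ, hσ⟩, hwp⟩, hw⟩ := h
  refine ⟨w, ⟨⟨σ, hσ⟩, hwp⟩, ?_⟩
  have hcomp := congrArg (GradedRing.proj 𝒜 (σ + (E + i))) hw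
  rw [map_zero, Finset.mul_sum, map_sum] at hcomp
  simp only [GradedRing.proj_apply] at hcomp
  rw [Finset.sum_eq_single i (fun j _ hji => ?_) (fun h' => absurd hi h')] at hcomp
  · rwa [DirectSum.decompose_of_mem_same 𝒜 (SetLike.mul_mem_graded hσ (ha i))] at hcomp
  · exact DirectSum.decompose_of_mem_ne 𝒜 (SetLike.mul_mem_graded hσ (ha j)) (show σ + (E + j) ≠ σ + (E + i) by omega)

include hg hgp in
theorem psi_injective : Function.Injective (psi 𝒜 p f g hf hfp) := by
  classical
  rw [injective_iff_map_eq_zero]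
  intro P hP
  have hc : ∀ i, ∃ (e : ℕ) (n D : A), n ∈ 𝒜 e ∧ D ∈ 𝒜 e ∧ ∃ hD : D ∈ homCompl 𝒜 p,
      (P.coeff i).val = Localization.mk n ⟨D, hD⟩ := fun i => by
    obtain ⟨⟨e, n, D, hD⟩, h⟩ := HomogeneousLocalization.mk_surjective (P.coeff i)
    exact ⟨e, n, D, n.2, D.2, hD, by rw [← h]; rfl⟩
  choose e n D hn hD hDc hval using hc
  let s := P.support
  let N := P.natDegree
  let E := (∑ j ∈ s, e j) + N * d
  let T : A := (∏ j ∈ s, D j) * f ^ N
  let a : ℕ → A := fun i => if i ∈ s then n i * g ^ i * f ^ (N - i) * ∏ j ∈ s.erase i, D j else 0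
  have hT : T ∈ homCompl 𝒜 p := mul_mem (Submonoid.prod_mem _ fun j _ => hDc j)
    (pow_mem (⟨⟨d, hf⟩, hfp⟩ : f ∈ homCompl 𝒜 p) N)
  have ha : ∀ i, a i ∈ 𝒜 (E + i) := by
    intro i
    by_cases hi : i ∈ s
    · have hiN : i ≤ N := le_natDegree_of_mem_supp i hi
      simp only [a, if_pos hi]
      have h1 := SetLike.mul_mem_graded (SetLike.mul_mem_graded (SetLike.mul_mem_graded (hn i)
        (SetLike.pow_mem_graded i hg)) (SetLike.pow_mem_graded (N - i) hf))
        (SetLike.prod_mem_graded 𝒜 e D (F := s.erase i) fun j _ => hD j)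
      have he : e i + i • (d + 1) + (N - i) • d + ∑ j ∈ s.erase i, e j = E + i := by
        simp only [E, smul_eq_mul, ← Finset.add_sum_erase s e hi]
        obtain ⟨k, hk⟩ := Nat.exists_eq_add_of_le hiN
        rw [hk, Nat.add_sub_cancel_left]
        ring
      rwa [he] at h1
    · simp only [a, if_neg hi]; exact zero_mem _
  have hterm : ∀ i ∈ s, algebraMap _ (Localization (homCompl 𝒜 p)) (P.coeff i) * u 𝒜 p f g hf hfp ^ i =
      Localization.mk (a i) ⟨T, hT⟩ := by
    intro i hi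
    rw [HomogeneousLocalization.algebraMap_apply, hval i, u, Localization.mk_pow, Localization.mk_mul,
      Localization.mk_eq_mk_iff, Localization.r_iff_exists]
    refine ⟨1, ?_⟩
    simp only [Submonoid.coe_mul, SubmonoidClass.coe_pow, OneMemClass.coe_one, one_mul, a, if_pos hi, T]
    rw [← Finset.mul_prod_erase s D hi, show f ^ N = f ^ (N - i) * f ^ i by
      rw [← pow_add, Nat.sub_add_cancel (le_natDegree_of_mem_supp i hi)]]
    ring
  have hsum : ∑ i ∈ s, Localization.mk (a i) (⟨T, hT⟩ : homCompl 𝒜 p) = 0 := by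
    rw [← Finset.sum_congr rfl hterm]
    rw [show psi 𝒜 p f g hf hfp P = P.eval₂ (algebraMap _ _) (u 𝒜 p f g hf hfp) from rfl, eval₂_eq_sum, Polynomial.sum_def] at hP
    exact hP
  refine Polynomial.ext fun i => ?_
  rw [coeff_zero]
  by_cases hi : i ∈ s
  swap
  · exact notMem_support_iff.1 hi
  obtain ⟨w, hw, hwa⟩ := eq_zero_of_sum_mk 𝒜 p a E ⟨T, hT⟩ s ha hsum i hi
  refine HomogeneousLocalization.val_injective _ ?_
  rw [HomogeneousLocalization.val_zero, hval i, Localization.mk_eq_mk', IsLocalization.mk'_eq_zero_iff]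
  simp only [a, if_pos hi] at hwa
  have hg' : g ∈ homCompl 𝒜 p → g ^ i * f ^ (N - i) * (∏ j ∈ s.erase i, D j) * w ∈ homCompl 𝒜 p := fun h =>
    mul_mem (mul_mem (mul_mem (pow_mem h i) (pow_mem (⟨⟨d, hf⟩, hfp⟩ : f ∈ homCompl 𝒜 p) _))
      (Submonoid.prod_mem _ fun j _ => hDc j)) hw
  by_cases hgc : g ∈ homCompl 𝒜 p
  · exact ⟨⟨_, hg' hgc⟩, by simp only; linear_combination hwa⟩
  · exact absurd ⟨⟨d + 1, hg⟩, hgp⟩ hgc

include hg hgp in
theorem psi_hits (a : A) :
    ∃ P, psi 𝒜 p f g hf hfp P = algebraMap A (Localization (homCompl 𝒜 p)) a := by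
  classical
  let c : ℕ → HomogeneousLocalization 𝒜 (homCompl 𝒜 p) := fun i => HomogeneousLocalization.mk
    ⟨i • (d + 1), ⟨(DirectSum.decompose 𝒜 a i : A) * f ^ i, by
        have h := SetLike.mul_mem_graded (SetLike.coe_mem (DirectSum.decompose 𝒜 a i)) (SetLike.pow_mem_graded i hf)
        rwa [show i + i • d = i • (d + 1) by rw [smul_eq_mul, smul_eq_mul]; ring] at h⟩,
      ⟨g ^ i, SetLike.pow_mem_graded i hg⟩, pow_mem (⟨⟨d + 1, hg⟩, hgp⟩ : g ∈ homCompl 𝒜 p) i⟩
  refine ⟨∑ i ∈ (DirectSum.decompose 𝒜 a).support, monomial i (c i), ?_⟩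
  conv_rhs => rw [← DirectSum.sum_support_decompose 𝒜 a]
  rw [map_sum, map_sum]
  refine Finset.sum_congr rfl fun i _ => ?_
  show eval₂ _ _ (monomial i (c i)) = _
  rw [eval₂_monomial, HomogeneousLocalization.algebraMap_apply, HomogeneousLocalization.val_mk, u,
    Localization.mk_pow, Localization.mk_mul, ← Localization.mk_one_eq_algebraMap,
    Localization.mk_eq_mk_iff, Localization.r_iff_exists]
  exact ⟨1, by simp only [Submonoid.coe_mul, SubmonoidClass.coe_pow, OneMemClass.coe_one, one_mul]; ring⟩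

include hf hg hfp hgp in
/-- The local ring of `Proj` is Gorenstein when the local ring at the prime is. -/
theorem gorenstein_atPrime [IsNoetherianRing A] (hB : LocCoh.IsGorensteinLocalRing (Localization.AtPrime p)) :
    LocCoh.IsGorensteinLocalRing (HomogeneousLocalization.AtPrime 𝒜 p) := by
  let e : HomogeneousLocalization 𝒜 (homCompl 𝒜 p) ≃+* HomogeneousLocalization.AtPrime 𝒜 p :=
    RingEquiv.ofBijective _ (toAtPrime_bijective 𝒜 p)
  refine GorLib.gorenstein_of_ringEquiv e.symm ?_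
  let R := HomogeneousLocalization 𝒜 (homCompl 𝒜 p)
  let L := Localization (homCompl 𝒜 p)
  let B := Localization.AtPrime p
  haveI : IsLocalRing R := e.symm.isLocalRing
  let χ : L →+* B := IsLocalization.lift (M := homCompl 𝒜 p) (g := algebraMap A B)
    fun y => IsLocalization.map_units B (⟨y.1, homCompl_le 𝒜 p y.2⟩ : p.primeCompl)
  have hχ : ∀ a, χ (algebraMap A L a) = algebraMap A B a := fun a => IsLocalization.lift_eq _ a
  let φ : R[X] →+* B := χ.comp (psi 𝒜 p f g hf hfp)
  letI : Algebra R[X] B := φ.toAlgebra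
  letI : Algebra R B := (φ.comp Polynomial.C).toAlgebra
  haveI : IsScalarTower R R[X] B := IsScalarTower.of_algebraMap_eq fun _ => rfl
  let q : Ideal R[X] := (maximalIdeal B).comap φ
  haveI : q.IsPrime := Ideal.IsPrime.comap _
  have hlift : ∀ a : A, ∃ P : R[X], φ P = algebraMap A B a ∧
      psi 𝒜 p f g hf hfp P = algebraMap A L a := fun a => by
    obtain ⟨P, hP⟩ := psi_hits 𝒜 p f g hf hg hfp hgp a
    exact ⟨P, by show χ _ = _; rw [hP, hχ], hP⟩
  have hqmem : ∀ P, P ∈ q.primeCompl ↔ IsUnit (φ P) := fun P => by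
    show ¬ (φ P ∈ maximalIdeal B) ↔ _
    rw [mem_maximalIdeal, mem_nonunits_iff, not_not]
  haveI : IsLocalization.AtPrime B q := by
    refine (isLocalization_iff q.primeCompl B).2 ⟨fun y => (hqmem y).1 y.2, fun z => ?_, fun {P P'} h => ?_⟩
    · obtain ⟨a, s, rfl⟩ := IsLocalization.exists_mk'_eq p.primeCompl z
      obtain ⟨Pa, hPa, -⟩ := hlift a
      obtain ⟨Ps, hPs, -⟩ := hlift (s : A)
      refine ⟨(Pa, ⟨Ps, (hqmem Ps).2 (by rw [hPs]; exact IsLocalization.map_units B s)⟩), ?_⟩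
      show IsLocalization.mk' B a s * φ Ps = φ Pa
      rw [hPs, hPa, IsLocalization.mk'_spec]
    · change φ P = φ P' at h
      obtain ⟨G, t, hGt⟩ := IsLocalization.exists_mk'_eq (homCompl 𝒜 p) (psi 𝒜 p f g hf hfp (P - P'))
      have h0 : χ (psi 𝒜 p f g hf hfp (P - P')) = 0 := by
        show φ (P - P') = 0
        rw [map_sub, h, sub_self]
      rw [← hGt, IsLocalization.lift_mk', mul_comm, Units.mul_right_eq_zero, IsLocalization.map_eq_zero_iff p.primeCompl] at h0
      obtain ⟨w, hw⟩ := h0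
      obtain ⟨Q, hQ, hQψ⟩ := hlift (w : A)
      refine ⟨⟨Q, (hqmem Q).2 (by rw [hQ]; exact IsLocalization.map_units B w)⟩, ?_⟩
      rw [← sub_eq_zero, ← mul_sub]
      refine psi_injective 𝒜 p f g hf hg hfp hgp ?_
      rw [map_mul, map_zero, hQψ, ← hGt, IsLocalization.mul_mk'_eq_mk'_of_mul, hw, IsLocalization.mk'_zero]
  haveI : Module.Flat R[X] B := IsLocalization.flat B q.primeCompl
  haveI : Module.Flat R B := Module.Flat.trans R R[X] B
  have hlocal : IsLocalHom (algebraMap R B) := ⟨fun r hr => by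
    have hC : psi 𝒜 p f g hf hfp (C r) = r.val := by
      show eval₂ _ _ (C r) = _
      rw [eval₂_C, HomogeneousLocalization.algebraMap_apply]
    obtain ⟨⟨i, n, D, hD⟩, rfl⟩ := HomogeneousLocalization.mk_surjective r
    have hn : (n : A) ∈ homCompl 𝒜 p := by
      refine ⟨⟨i, n.2⟩, fun hnp => ?_⟩
      change IsUnit (χ (psi 𝒜 p f g hf hfp (C _))) at hr
      rw [hC, HomogeneousLocalization.val_mk, Localization.mk_eq_mk', IsLocalization.lift_mk',
        mul_comm, Units.isUnit_units_mul] at hr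
      exact (IsLocalization.AtPrime.isUnit_to_map_iff B p (n : A)).1 hr hnp
    refine isUnit_iff_exists_inv.2 ⟨HomogeneousLocalization.mk ⟨i, D, n, hn⟩, HomogeneousLocalization.val_injective _ ?_⟩
    rw [HomogeneousLocalization.val_mul, HomogeneousLocalization.val_mk, HomogeneousLocalization.val_mk,
      HomogeneousLocalization.val_one, Localization.mk_mul]
    conv_lhs => rw [show (⟨(D : A), hD⟩ : homCompl 𝒜 p) * ⟨(n : A), hn⟩ = ⟨(n : A) * D, mul_mem hn hD⟩ from
      Subtype.ext (mul_comm _ _)]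
    exact Localization.mk_self ⟨(n : A) * D, mul_mem hn hD⟩⟩
  haveI := hlocal
  haveI : Module.FaithfullyFlat R B := Module.FaithfullyFlat.of_flat_of_isLocalHom
  haveI : IsNoetherianRing B := IsLocalization.isNoetherianRing p.primeCompl _ inferInstance
  haveI : IsNoetherianRing R := by
    rw [isNoetherianRing_iff, isNoetherian_iff]
    exact InvImage.wf (fun I : Ideal R => I.map (algebraMap R B)) (IsWellFounded.wf (r := (· > ·)))|> Subrelation.wf
      fun {I J} (h : J < I) => lt_of_le_of_ne (Ideal.map_mono h.le) fun he => h.ne (by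
        rw [← Ideal.comap_map_eq_self_of_faithfullyFlat (B := B) J, he, Ideal.comap_map_eq_self_of_faithfullyFlat])
  exact ((GorLib.gorenstein_flat_iff R B).1 hB).1

end VeroProjLib
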